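import Mathlib
import Groth.Prelude.Def_Red

set_option autoImplicit false
open CategoryTheory Limits AlgebraicGeometry MonoidalCategory CartesianMonoidalCategory MonObj GrpObj
universe u
namespace Groth.Agent.H5.Spread

variable {S S' S'' : Scheme.{u}} (e : S'' ⟶ S') (f : S' ⟶ S)

/-- explicit composition isomorphism of base change functors -/
noncomputable def pbComp : Over.pullback (e ≫ f) ≅ Over.pullback f ⋙ Over.pullback e :=
  NatIso.ofComponents
    (fun G => Over.isoMk (pullbackLeftPullbackSndIso G.hom f e).symm (by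
      change (pullbackLeftPullbackSndIso G.hom f e).inv ≫ pullback.snd _ _ = pullback.snd _ _
      exact pullbackLeftPullbackSndIso_inv_snd_snd _ _ _))
    (by
      intro G G' a
      ext
      change pullback.lift _ _ _ ≫ (pullbackLeftPullbackSndIso G'.hom f e).inv =
        (pullbackLeftPullbackSndIso G.hom f e).inv ≫ pullback.lift _ _ _
      rw [Iso.comp_inv_eq, Category.assoc, Iso.eq_inv_comp]
      apply pullback.hom_ext
      · simp [pullback.lift_fst, pullback.lift_fst_assoc]
      · simp [pullback.lift_snd])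

variable (G : Over S)

noncomputable def bcComp : Red.bc (e ≫ f) G ≅ Red.bc e (Red.bc f G) := (pbComp e f).app G

@[reassoc]
lemma bcComp_hom_fst : (bcComp e f G).hom.left ≫ pullback.fst _ e ≫ pullback.fst G.hom f =
    pullback.fst G.hom (e ≫ f) :=
  pullbackLeftPullbackSndIso_inv_fst _ _ _

@[reassoc]
lemma bcComp_hom_snd : (bcComp e f G).hom.left ≫ pullback.snd _ e = pullback.snd G.hom (e ≫ f) :=
  pullbackLeftPullbackSndIso_inv_snd_snd _ _ _

@[reassoc]
lemma bcComp_inv_fst : (bcComp e f G).inv.left ≫ pullback.fst G.hom (e ≫ f) =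
    pullback.fst _ e ≫ pullback.fst G.hom f :=
  pullbackLeftPullbackSndIso_hom_fst _ _ _

@[reassoc]
lemma bcComp_inv_snd : (bcComp e f G).inv.left ≫ pullback.snd G.hom (e ≫ f) = pullback.snd _ e :=
  pullbackLeftPullbackSndIso_hom_snd _ _ _

variable [GrpObj G]

instance : IsMonHom (bcComp e f G).hom := by
  have hk := ((Functor.mapMonNatTrans (pbComp e f).hom).app (Mon.mk G) ≫
    (Functor.mapMonCompIso (F := Over.pullback f) (G := Over.pullback e)).hom.app
    (Mon.mk G)).isMonHom_hom
  have e1 : ((Functor.mapMonNatTrans (pbComp e f).hom).app (Mon.mk G) ≫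
    (Functor.mapMonCompIso (F := Over.pullback f) (G := Over.pullback e)).hom.app
    (Mon.mk G)).hom = (bcComp e f G).hom := by
    simp only [bcComp, Iso.app_hom]
    exact Category.comp_id _
  rw [e1] at hk
  exact hk

instance : IsMonHom (bcComp e f G).inv := inferInstance


section Eq

variable {f₁ f₂ : S' ⟶ S} (h : f₁ = f₂)

/-- base change along equal morphisms -/
noncomputable def bcEq (G : Over S) : Red.bc f₁ G ≅ Red.bc f₂ G := eqToIso (by rw [h])

omit [GrpObj G] in
@[reassoc]
lemma bcEq_hom_fst : (bcEq h G).hom.left ≫ pullback.fst G.hom f₂ = pullback.fst G.hom f₁ := by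
  subst h
  simp [bcEq]

omit [GrpObj G] in
@[reassoc]
lemma bcEq_hom_snd : (bcEq h G).hom.left ≫ pullback.snd G.hom f₂ = pullback.snd G.hom f₁ := by
  subst h
  simp [bcEq]

omit [GrpObj G] in
@[reassoc]
lemma bcEq_inv_fst : (bcEq h G).inv.left ≫ pullback.fst G.hom f₁ = pullback.fst G.hom f₂ := by
  subst h
  simp [bcEq]

omit [GrpObj G] in
@[reassoc]
lemma bcEq_inv_snd : (bcEq h G).inv.left ≫ pullback.snd G.hom f₁ = pullback.snd G.hom f₂ := by
  subst h
  simp [bcEq]

instance : IsMonHom (bcEq h G).hom := by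
  subst h
  change IsMonHom (𝟙 _)
  infer_instance

instance : IsMonHom (bcEq h G).inv := inferInstance

end Eq

section Transport

variable {C : Type*} [Category C] [CartesianMonoidalCategory C]

/-- a subobject isomorphic to a subgroup is a subgroup -/
theorem exists_grpObj_of_iso {H H' G : C} [GrpObj G] [GrpObj H'] (j : H ⟶ G) (j' : H' ⟶ G)
    [IsMonHom j'] (κ : H ≅ H') (hκ : κ.hom ≫ j' = j) : ∃ _ : GrpObj H, IsMonHom j := by
  letI : GrpObj H := GrpObj.ofIso κ.symm
  haveI : IsMonHom κ.symm.hom := isMonHom_ofIso κ.symm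
  haveI : IsMonHom κ.hom := by
    change IsMonHom κ.symm.inv
    infer_instance
  refine ⟨inferInstance, ?_⟩
  rw [← hκ]
  infer_instance

end Transport

end Groth.Agent.H5.Spread
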