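import Mathlib
import Groth.Prelude.Def_Red
import Groth.Agent.Lib.Helper5.Spread.SpA
import Groth.Agent.Lib.Helper5.GrpLim.GrpD
import Groth.Agent.Lib.Helper5.Lim.ModelOver
import Groth.Agent.Lib.Helper5.Lim.DescendProps
import Groth.Agent.Lib.Helper5.PropNhd.PnB

/-!
# Closed subgroup schemes of the fibre over a local ring spread out (S18029)
-/

set_option autoImplicit false

open CategoryTheory Limits AlgebraicGeometry MonoidalCategory CartesianMonoidalCategory MonObj GrpObj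
open Groth.Agent.H5.NApprox Groth.Agent.H5.Lim Groth.Agent.H5.PropNhd

universe u

namespace Groth.Agent.H5.Spread

section Maps

variable {S' S'' : Scheme.{u}} (f : S'' ⟶ S') {A B : Over S'} (a : A ⟶ B)

lemma map_left_fst : ((Over.pullback f).map a).left ≫ pullback.fst B.hom f =
    pullback.fst A.hom f ≫ a.left := by
  change pullback.lift _ _ _ ≫ _ = _
  exact pullback.lift_fst _ _ _

lemma map_left_snd : ((Over.pullback f).map a).left ≫ pullback.snd B.hom f =
    pullback.snd A.hom f := by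
  change pullback.lift _ _ _ ≫ _ = _
  exact pullback.lift_snd _ _ _

lemma map_left_isPullback : IsPullback ((Over.pullback f).map a).left (pullback.fst A.hom f)
    (pullback.fst B.hom f) a.left := by
  have hB : IsPullback (pullback.fst B.hom f) (pullback.snd B.hom f) B.hom f :=
    IsPullback.of_hasPullback _ _
  have hA : IsPullback (pullback.fst A.hom f) (pullback.snd A.hom f) (a.left ≫ B.hom) f := by
    rw [Over.w a]
    exact IsPullback.of_hasPullback _ _
  have hA' : IsPullback (pullback.snd A.hom f) (pullback.fst A.hom f) f (a.left ≫ B.hom) := hA.flip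
  exact IsPullback.of_right (by rw [map_left_snd]; exact hA') (map_left_fst f a) hB.flip

end Maps


section Bcc

variable {S S' S'' : Scheme.{u}} (e : S'' ⟶ S') (f : S' ⟶ S) (g : S'' ⟶ S) (h : e ≫ f = g)
  (G : Over S)

/-- iterated base change as a single base change -/
noncomputable def bcc : Red.bc e (Red.bc f G) ≅ Red.bc g G := (bcComp e f G).symm ≪≫ bcEq h G

lemma bcc_hom_fst : (bcc e f g h G).hom.left ≫ pullback.fst G.hom g =
    pullback.fst _ e ≫ pullback.fst G.hom f := by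
  dsimp only [bcc, Iso.trans_hom, Iso.symm_hom]
  rw [Over.comp_left, Category.assoc, bcEq_hom_fst, bcComp_inv_fst]

instance [GrpObj G] : IsMonHom (bcc e f g h G).hom := by
  dsimp only [bcc, Iso.trans_hom, Iso.symm_hom]
  infer_instance

end Bcc

section Main

variable {X : Scheme.{u}} (U₀ : X.Opens) (hU₀ : IsAffineOpen U₀) (x : U₀.toScheme)
  (G : Over X) [GrpObj G] [IsAffineHom G.hom] [LocallyOfFinitePresentation G.hom]
  (Hη : Over (Spec (X.presheaf.stalk (U₀.ι x)))) [GrpObj Hη]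
  (i : Hη ⟶ Red.bc (X.fromSpecStalk (U₀.ι x)) G) [IsMonHom i] [IsClosedImmersion i.left]
  [LocallyOfFinitePresentation i.left]

include hU₀ in
theorem spread_stage :
    ∃ (U : X.Opens) (hxU : U₀.ι x ∈ U) (HU : Over (U : Scheme.{u})) (_ : GrpObj HU)
      (j : HU ⟶ Red.bc U.ι G) (φ : Hη.left ⟶ HU.left),
      IsMonHom j ∧ IsClosedImmersion j.left ∧
      IsPullback φ Hη.hom HU.hom (U.fromSpecStalkOfMem (U₀.ι x) hxU) ∧
      φ ≫ j.left ≫ pullback.fst G.hom U.ι =
        i.left ≫ pullback.fst G.hom (X.fromSpecStalk (U₀.ι x)) := by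
  classical
  haveI : IsAffine U₀.toScheme := hU₀
  let b : U₀.toScheme ⟶ X := U₀.ι
  let D : BI x ⥤ Scheme.{u} := stD x b ⋙ Over.forget X
  let c : Cone D := (Over.forget X).mapCone (stCone x b)
  have hc : IsLimit c := stIsLimitForget x b
  haveI hDaff : ∀ (i j : BI x) (φ : i ⟶ j), IsAffineHom (D.map φ) := fun i j φ =>
    stD_isAffineHom x b φ
  haveI hDa : ∀ a : BI x, IsAffine (D.obj a) := fun a => stD_isAffine x b a
  let t : ∀ a : BI x, D.obj a ⟶ X := fun a => ((stD x b).obj a).hom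
  have ht : ∀ {a a' : BI x} (φ : a ⟶ a'), D.map φ ≫ t a' = t a := fun φ =>
    CategoryTheory.Over.w ((stD x b).map φ)
  let tl : c.pt ⟶ X := U₀.toScheme.fromSpecStalk x ≫ b
  have htl : ∀ a, c.π.app a ≫ t a = tl := fun a =>
    CategoryTheory.Over.w ((stCone x b).π.app a)
  let ε : c.pt ⟶ Spec (X.presheaf.stalk (U₀.ι x)) := Spec.map (U₀.ι.stalkMap x)
  haveI : IsIso ε := by
    haveI : IsIso (U₀.ι.stalkMap x) := inferInstance
    change IsIso (Scheme.Spec.map (U₀.ι.stalkMap x).op)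
    infer_instance
  have hε : ε ≫ X.fromSpecStalk (U₀.ι x) = tl := Scheme.SpecMap_stalkMap_fromSpecStalk U₀.ι
  let i₀ : BI x := BI.one x
  let G₀ : Over (D.obj i₀) := Red.bc (t i₀) G
  let a : G₀.left ⟶ D.obj i₀ := G₀.hom
  -- the subgroup over the limit
  let H' : Over c.pt := Red.bc ε Hη
  have hε' : ε ≫ X.fromSpecStalk (U₀.ι x) = c.π.app i₀ ≫ t i₀ := by rw [hε, htl]
  let χ : Red.bc ε (Red.bc (X.fromSpecStalk (U₀.ι x)) G) ≅ Red.bc (c.π.app i₀) G₀ :=
    (bcComp ε (X.fromSpecStalk (U₀.ι x)) G).symm ≪≫ bcEq hε' G ≪≫ bcComp (c.π.app i₀) (t i₀) G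
  haveI : IsMonHom χ.hom := by
    dsimp only [χ, Iso.trans_hom, Iso.symm_hom]
    infer_instance
  have hχfst : χ.hom.left ≫ pullback.fst G₀.hom (c.π.app i₀) ≫ pullback.fst G.hom (t i₀) =
      pullback.fst _ ε ≫ pullback.fst G.hom (X.fromSpecStalk (U₀.ι x)) := by
    dsimp only [χ, Iso.trans_hom, Iso.symm_hom]
    rw [Over.comp_left, Over.comp_left, Category.assoc, Category.assoc, bcComp_hom_fst,
      bcEq_hom_fst, bcComp_inv_fst]
  let j' : H' ⟶ Red.bc (c.π.app i₀) G₀ := (Over.pullback ε).map i ≫ χ.hom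
  haveI : IsMonHom j' := by
    dsimp only [j']
    infer_instance
  haveI : IsIso χ.hom.left := inferInstance
  have hj'left : j'.left = ((Over.pullback ε).map i).left ≫ χ.hom.left := rfl
  haveI : IsClosedImmersion ((Over.pullback ε).map i).left :=
    MorphismProperty.of_isPullback (P := @IsClosedImmersion) (map_left_isPullback ε i).flip
      inferInstance
  haveI : LocallyOfFinitePresentation ((Over.pullback ε).map i).left :=
    MorphismProperty.of_isPullback (P := @LocallyOfFinitePresentation)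
      (map_left_isPullback ε i).flip inferInstance
  haveI : IsClosedImmersion j'.left := by rw [hj'left]; infer_instance
  haveI : LocallyOfFinitePresentation j'.left := by rw [hj'left]; infer_instance
  -- the base change system
  haveI : IsAffineHom a := by
    change IsAffineHom (pullback.snd G.hom (t i₀))
    infer_instance
  haveI : IsAffine G₀.left := isAffine_of_isAffineHom a
  let E : Over i₀ ⥤ Scheme.{u} := bcDiagram D a
  let cE : Cone E := bcCone D c a
  have hcE : IsLimit cE := isLimitBcCone D c a hc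
  haveI : ∀ (j k : Over i₀) (φ : j ⟶ k), IsAffineHom (E.map φ) := fun j k φ =>
    isAffineHom_bcMap D a φ (hDaff _ _ _)
  haveI : CompactSpace (E.obj (Over.mk (𝟙 i₀))) :=
    compactSpace_bcDiagram_obj D a _ (hDaff _ _ _)
  haveI : QuasiSeparatedSpace (E.obj (Over.mk (𝟙 i₀))) :=
    quasiSeparatedSpace_bcDiagram_obj D a _ (hDaff _ _ _)
  let f' : H'.left ⟶ cE.pt := j'.left
  haveI : IsClosedImmersion f' := ‹IsClosedImmersion j'.left›
  haveI : LocallyOfFinitePresentation f' := ‹LocallyOfFinitePresentation j'.left›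
  obtain ⟨jj, -, Xj, fj, gj, hfj_cl, hfj_lfp, -, -, hpb⟩ :=
    exists_model_over E cE hcE (Over.mk (𝟙 i₀)) affineSystemDescent_isClosedImmersion
      (fun g h1 h2 h3 => ⟨inferInstance, h2, h3⟩) f' inferInstance
  haveI := hfj_cl
  haveI := hfj_lfp
  -- the stage where the subscheme is defined
  let i₁ : BI x := jj.left
  let ψ : i₁ ⟶ i₀ := jj.hom
  let G₁ : Over (D.obj i₁) := Red.bc (D.map ψ) G₀
  let H₁ : Over (D.obj i₁) := Over.mk (fj ≫ G₁.hom)
  let ι₁ : H₁ ⟶ G₁ := Over.homMk fj rfl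
  haveI : IsClosedImmersion ι₁.left := hfj_cl
  haveI : LocallyOfFinitePresentation ι₁.left := hfj_lfp
  have hP : IsPullback gj H'.hom H₁.hom (c.π.app i₁) := by
    have h1 := hpb.paste_vert (isPullback_bcProj D c a jj)
    have h2 : f' ≫ pullback.snd a (c.π.app i₀) = H'.hom := Over.w j'
    rw [h2] at h1
    exact h1
  let ξ : Red.bc (c.π.app i₀) G₀ ≅ Red.bc (c.π.app i₁) G₁ :=
    bcEq (c.w ψ).symm G₀ ≪≫ bcComp (c.π.app i₁) (D.map ψ) G₀
  haveI : IsMonHom ξ.hom := by
    dsimp only [ξ, Iso.trans_hom]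
    infer_instance
  have hξ : ξ.hom.left ≫ pullback.fst G₁.hom (c.π.app i₁) = bcProj D c a jj := by
    apply pullback.hom_ext
    · rw [Category.assoc, bcProj_fst]
      dsimp only [ξ, Iso.trans_hom]
      rw [Over.comp_left, Category.assoc]
      exact (congrArg (fun m => (bcEq (c.w ψ).symm G₀).hom.left ≫ m)
        (bcComp_hom_fst (c.π.app i₁) (D.map ψ) G₀)).trans (bcEq_hom_fst _ _)
    · rw [Category.assoc, bcProj_snd]
      have hcond : pullback.fst G₁.hom (c.π.app i₁) ≫ pullback.snd a (D.map jj.hom) =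
          pullback.snd G₁.hom (c.π.app i₁) ≫ c.π.app i₁ := pullback.condition
      rw [hcond]
      dsimp only [ξ, Iso.trans_hom]
      rw [Over.comp_left, Category.assoc]
      rw [bcComp_hom_snd_assoc, bcEq_hom_snd_assoc]
  let j'' : H' ⟶ Red.bc (c.π.app i₁) G₁ := j' ≫ ξ.hom
  haveI : IsMonHom j'' := by
    dsimp only [j'']
    infer_instance
  let κ' : H' ≅ Red.bc (c.π.app i₁) H₁ := Over.isoMk hP.isoPullback hP.isoPullback_hom_snd
  have hcompat : κ'.symm.hom ≫ j'' = (Over.pullback (c.π.app i₁)).map ι₁ := by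
    rw [Iso.symm_hom, Iso.inv_comp_eq]
    ext
    apply pullback.hom_ext
    · have e1 : j''.left ≫ pullback.fst G₁.hom (c.π.app i₁) = gj ≫ fj := by
        change (j'.left ≫ ξ.hom.left) ≫ _ = _
        rw [Category.assoc, hξ]
        exact hpb.w.symm
      have e2 : (κ'.hom ≫ (Over.pullback (c.π.app i₁)).map ι₁).left ≫
          pullback.fst G₁.hom (c.π.app i₁) = gj ≫ fj := by
        rw [Over.comp_left, Category.assoc, map_left_fst]
        change hP.isoPullback.hom ≫ pullback.fst _ _ ≫ fj = _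
        rw [hP.isoPullback_hom_fst_assoc]
      rw [e1, e2]
    · have e1 : j''.left ≫ pullback.snd G₁.hom (c.π.app i₁) = H'.hom := Over.w j''
      have e2 : (κ'.hom ≫ (Over.pullback (c.π.app i₁)).map ι₁).left ≫
          pullback.snd G₁.hom (c.π.app i₁) = H'.hom :=
        Over.w (κ'.hom ≫ (Over.pullback (c.π.app i₁)).map ι₁)
      rw [e1, e2]
  obtain ⟨instH, hmonH⟩ := exists_grpObj_of_iso ((Over.pullback (c.π.app i₁)).map ι₁) j''
    κ'.symm hcompat
  haveI : QuasiCompact G₁.hom := by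
    change QuasiCompact (pullback.snd G₀.hom (D.map ψ))
    infer_instance
  obtain ⟨i₂, b₂, instH₂, hmonH₂⟩ :=
    (Groth.Agent.H5.GrpLim.main D c hc i₁ ι₁ ⟨instH, hmonH⟩).1
  -- the final stage
  letI := instH₂
  haveI := hmonH₂
  let H₂ : Over (D.obj i₂) := Red.bc (D.map b₂) H₁
  let m₂ : H₂ ⟶ Red.bc (D.map b₂) G₁ := (Over.pullback (D.map b₂)).map ι₁
  haveI : IsOpenImmersion (t i₂) := by
    change IsOpenImmersion ((U₀.toScheme.basicOpen i₂.f).ι ≫ U₀.ι)
    infer_instance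
  let U : X.Opens := (t i₂).opensRange
  have hxU : U₀.ι x ∈ U := ⟨⟨x, i₂.mem⟩, rfl⟩
  let ρ : D.obj i₂ ≅ (U : Scheme.{u}) := (t i₂).isoOpensRange
  have hρ : ρ.inv ≫ t i₂ = U.ι := Scheme.Hom.isoOpensRange_inv_comp _
  have hρ' : ρ.hom ≫ U.ι = t i₂ := Scheme.Hom.isoOpensRange_hom_ι _
  let ζ₁ : G₁ ≅ Red.bc (t i₁) G := bcc (D.map ψ) (t i₀) (t i₁) (ht ψ) G
  let ζ₂ : Red.bc (D.map b₂) (Red.bc (t i₁) G) ≅ Red.bc (t i₂) G :=
    bcc (D.map b₂) (t i₁) (t i₂) (ht b₂) G
  let ζ₃ : Red.bc ρ.inv (Red.bc (t i₂) G) ≅ Red.bc U.ι G := bcc ρ.inv (t i₂) U.ι hρ G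
  let ζ : Red.bc ρ.inv (Red.bc (D.map b₂) G₁) ≅ Red.bc U.ι G :=
    (Over.pullback ρ.inv).mapIso ((Over.pullback (D.map b₂)).mapIso ζ₁) ≪≫
      (Over.pullback ρ.inv).mapIso ζ₂ ≪≫ ζ₃
  haveI : IsMonHom ζ.hom := by
    dsimp only [ζ, ζ₁, ζ₂, ζ₃, Iso.trans_hom, Functor.mapIso_hom]
    infer_instance
  have hζ : ζ.hom.left ≫ pullback.fst G.hom U.ι =
      pullback.fst _ ρ.inv ≫ pullback.fst _ (D.map b₂) ≫ pullback.fst _ (D.map ψ) ≫
        pullback.fst G.hom (t i₀) := by
    dsimp only [ζ, Iso.trans_hom, Functor.mapIso_hom]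
    rw [Over.comp_left, Over.comp_left, Category.assoc, Category.assoc]
    dsimp only [ζ₃]
    rw [bcc_hom_fst, ← Category.assoc ((Over.pullback ρ.inv).map ζ₂.hom).left, map_left_fst,
      Category.assoc]
    dsimp only [ζ₂]
    rw [bcc_hom_fst, ← Category.assoc ((Over.pullback ρ.inv).map _).left, map_left_fst,
      Category.assoc, ← Category.assoc ((Over.pullback (D.map b₂)).map ζ₁.hom).left, map_left_fst,
      Category.assoc]
    dsimp only [ζ₁]
    rw [bcc_hom_fst]
  let HU : Over (U : Scheme.{u}) := Red.bc ρ.inv H₂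
  let jU : HU ⟶ Red.bc U.ι G := (Over.pullback ρ.inv).map m₂ ≫ ζ.hom
  haveI : IsMonHom jU := by
    dsimp only [jU]
    infer_instance
  have hjUleft : jU.left = ((Over.pullback ρ.inv).map m₂).left ≫ ζ.hom.left := rfl
  haveI : IsClosedImmersion m₂.left :=
    MorphismProperty.of_isPullback (P := @IsClosedImmersion)
      (map_left_isPullback (D.map b₂) ι₁).flip inferInstance
  haveI : IsClosedImmersion ((Over.pullback ρ.inv).map m₂).left :=
    MorphismProperty.of_isPullback (P := @IsClosedImmersion)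
      (map_left_isPullback ρ.inv m₂).flip inferInstance
  haveI : IsIso ζ.hom.left := inferInstance
  haveI : IsClosedImmersion jU.left := by rw [hjUleft]; infer_instance
  -- the comparison map
  let q₂ : H'.left ⟶ H₂.left := pullback.lift gj (H'.hom ≫ c.π.app i₂) (by
    rw [Category.assoc, c.w b₂]
    exact hP.w)
  have hq₂fst : q₂ ≫ pullback.fst H₁.hom (D.map b₂) = gj := pullback.lift_fst _ _ _
  have hq₂snd : q₂ ≫ pullback.snd H₁.hom (D.map b₂) = H'.hom ≫ c.π.app i₂ :=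
    pullback.lift_snd _ _ _
  have hQ : IsPullback q₂ H'.hom H₂.hom (c.π.app i₂) := by
    refine IsPullback.of_right ?_ hq₂snd (IsPullback.of_hasPullback H₁.hom (D.map b₂))
    rw [hq₂fst, c.w b₂]
    exact hP
  let φ : Hη.left ⟶ HU.left := inv (pullback.fst Hη.hom ε) ≫ q₂ ≫ inv (pullback.fst H₂.hom ρ.inv)
  have hA : IsPullback (inv (pullback.fst Hη.hom ε)) Hη.hom H'.hom (inv ε) := by
    refine IsPullback.of_horiz_isIso ⟨?_⟩
    rw [IsIso.inv_comp_eq, ← Category.assoc, IsIso.eq_comp_inv]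
    exact pullback.condition.symm
  have hC : IsPullback (inv (pullback.fst H₂.hom ρ.inv)) H₂.hom HU.hom ρ.hom := by
    refine IsPullback.of_horiz_isIso ⟨?_⟩
    rw [IsIso.inv_comp_eq, ← Category.assoc]
    have : pullback.fst H₂.hom ρ.inv ≫ H₂.hom = HU.hom ≫ ρ.inv := pullback.condition
    rw [this, Category.assoc, Iso.inv_hom_id, Category.comp_id]
  have hφ : IsPullback φ Hη.hom HU.hom (inv ε ≫ c.π.app i₂ ≫ ρ.hom) :=
    hA.paste_horiz (hQ.paste_horiz hC)
  have hη : inv ε ≫ c.π.app i₂ ≫ ρ.hom = U.fromSpecStalkOfMem (U₀.ι x) hxU := by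
    rw [← cancel_mono U.ι, Category.assoc, Category.assoc, hρ', htl,
      Scheme.Opens.fromSpecStalkOfMem_ι, IsIso.inv_comp_eq, hε]
  rw [hη] at hφ
  refine ⟨U, hxU, HU, inferInstance, jU, φ, inferInstance, inferInstance, hφ, ?_⟩
  have s1 : ((Over.pullback ρ.inv).map m₂).left ≫ pullback.fst _ ρ.inv =
      pullback.fst H₂.hom ρ.inv ≫ m₂.left := map_left_fst ρ.inv m₂
  have s2 : m₂.left ≫ pullback.fst G₁.hom (D.map b₂) = pullback.fst H₁.hom (D.map b₂) ≫ fj :=
    map_left_fst (D.map b₂) ι₁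
  have s3 : φ ≫ pullback.fst H₂.hom ρ.inv = inv (pullback.fst Hη.hom ε) ≫ q₂ := by
    dsimp only [φ]
    rw [Category.assoc, Category.assoc, IsIso.inv_hom_id, Category.comp_id]
  have s4 : gj ≫ fj = f' ≫ bcProj D c a jj := hpb.w
  have s5 : bcProj D c a jj ≫ pullback.fst G₀.hom (D.map ψ) = pullback.fst a (c.π.app i₀) :=
    bcProj_fst D c a jj
  have s6 : ((Over.pullback ε).map i).left ≫ pullback.fst _ ε = pullback.fst Hη.hom ε ≫ i.left :=
    map_left_fst ε i
  have s7 : f' ≫ pullback.fst a (c.π.app i₀) ≫ pullback.fst G.hom (t i₀) =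
      pullback.fst Hη.hom ε ≫ i.left ≫ pullback.fst G.hom (X.fromSpecStalk (U₀.ι x)) := by
    change (((Over.pullback ε).map i).left ≫ χ.hom.left) ≫
      pullback.fst G₀.hom (c.π.app i₀) ≫ pullback.fst G.hom (t i₀) = _
    rw [Category.assoc, hχfst, ← Category.assoc, s6, Category.assoc]
  -- the projection from `G₁` to `G`
  let pG₁ : G₁.left ⟶ G.left := pullback.fst G₀.hom (D.map ψ) ≫ pullback.fst G.hom (t i₀)
  have c1 : gj ≫ fj ≫ pG₁ =
      pullback.fst Hη.hom ε ≫ i.left ≫ pullback.fst G.hom (X.fromSpecStalk (U₀.ι x)) := by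
    have h1 : gj ≫ fj ≫ pG₁ = (gj ≫ fj) ≫ pG₁ := (Category.assoc _ _ _).symm
    have h2 : (f' ≫ bcProj D c a jj) ≫ pG₁ = f' ≫ (bcProj D c a jj ≫ pG₁) := Category.assoc _ _ _
    have h3 : bcProj D c a jj ≫ pG₁ =
        pullback.fst a (c.π.app i₀) ≫ pullback.fst G.hom (t i₀) := by
      change bcProj D c a jj ≫ pullback.fst a (D.map jj.hom) ≫ pullback.fst G.hom (t i₀) = _
      rw [bcProj_fst_assoc]
    exact h1.trans ((congrArg (fun m => m ≫ pG₁) s4).trans
      (h2.trans ((congrArg (fun m => f' ≫ m) h3).trans s7)))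
  have c2 : m₂.left ≫ pullback.fst G₁.hom (D.map b₂) ≫ pG₁ =
      pullback.fst H₁.hom (D.map b₂) ≫ fj ≫ pG₁ :=
    (Category.assoc _ _ _).symm.trans ((congrArg (fun m => m ≫ pG₁) s2).trans
      (Category.assoc _ _ _))
  have c3 : jU.left ≫ pullback.fst G.hom U.ι =
      pullback.fst H₂.hom ρ.inv ≫ pullback.fst H₁.hom (D.map b₂) ≫ fj ≫ pG₁ := by
    rw [hjUleft, Category.assoc, hζ]
    change ((Over.pullback ρ.inv).map m₂).left ≫ pullback.fst _ ρ.inv ≫
      pullback.fst G₁.hom (D.map b₂) ≫ pG₁ = _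
    rw [← Category.assoc, s1, Category.assoc, c2]
  have c4 : φ ≫ pullback.fst H₂.hom ρ.inv ≫ pullback.fst H₁.hom (D.map b₂) ≫ fj ≫ pG₁ =
      inv (pullback.fst Hη.hom ε) ≫ gj ≫ fj ≫ pG₁ := by
    rw [← Category.assoc, s3, Category.assoc, ← Category.assoc q₂, hq₂fst]
  change φ ≫ jU.left ≫ pullback.fst G.hom U.ι = _
  rw [c3, c4, c1, IsIso.inv_hom_id_assoc]

end Main

/-- variant of `spread_stage` with the point named -/
theorem spread_stage' {X : Scheme.{u}} (U₀ : X.Opens) (hU₀ : IsAffineOpen U₀) (x : U₀.toScheme)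
    (y : X) (hy : U₀.ι x = y)
    (G : Over X) [GrpObj G] [IsAffineHom G.hom] [LocallyOfFinitePresentation G.hom]
    (Hη : Over (Spec (X.presheaf.stalk y))) [GrpObj Hη]
    (i : Hη ⟶ Red.bc (X.fromSpecStalk y) G) [IsMonHom i] [IsClosedImmersion i.left]
    [LocallyOfFinitePresentation i.left] :
    ∃ (U : X.Opens) (hxU : y ∈ U) (HU : Over (U : Scheme.{u})) (_ : GrpObj HU)
      (j : HU ⟶ Red.bc U.ι G) (φ : Hη.left ⟶ HU.left),
      IsMonHom j ∧ IsClosedImmersion j.left ∧
      IsPullback φ Hη.hom HU.hom (U.fromSpecStalkOfMem y hxU) ∧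
      φ ≫ j.left ≫ pullback.fst G.hom U.ι = i.left ≫ pullback.fst G.hom (X.fromSpecStalk y) := by
  subst hy
  exact spread_stage U₀ hU₀ x G Hη i

end Groth.Agent.H5.Spread
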